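import Cfsg.Agent.FischerThm.Defs
import Cfsg.Agent.FischerRankThree.Main
import Cfsg.Agent.FischerTransitivity.Connected

/-!
# The rank three graph of a class in the generic case
-/

set_option autoImplicit false

universe u

namespace CfsgLib.FischerThm.SrgAux

open Cfsg CfsgLib.FischerTypes
open scoped commutatorElement

variable {G : Type u} [Group G] {D : Set G}

theorem exists_nonabelian (h : Generic D) : ∃ x y : commutator G, x * y ≠ y * x := by
  by_contra hno
  push Not at hno
  haveI := h.simple
  obtain ⟨d, hd, y, hy, hne, hdy⟩ := h.pair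
  obtain ⟨g, hg⟩ := FischerTransitivity.exists_conj h.cls hd hy
  have hmem : d * y ∈ commutator G := by
    have : d * y = ⁅d, g⁆ := by
      rw [commutatorElement_def, FischerTransitivity.inv_self h.cls hd, ← hg]; group
    rw [this]
    exact Subgroup.commutator_mem_commutator (Subgroup.mem_top d) (Subgroup.mem_top g)
  let x : commutator G := ⟨d * y, hmem⟩
  have hx1 : x ≠ 1 := fun e => hne (by
    have e1 : d * y = 1 := congrArg Subtype.val e
    rw [← inv_eq_of_mul_eq_one_right e1, FischerTransitivity.inv_self h.cls hd])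
  have hxx : x * x = 1 := Subtype.ext (by
    show d * y * (d * y) = 1
    calc d * y * (d * y) = d * (y * d) * y := by group
      _ = d * (d * y) * y := by rw [hdy.eq]
      _ = (d * d) * (y * y) := by group
      _ = 1 := by rw [FischerTransitivity.sq_one h.cls hd, FischerTransitivity.sq_one h.cls hy, one_mul])
  haveI hN : (Subgroup.zpowers x).Normal := ⟨fun n hn g => by
    rw [hno g n, mul_inv_cancel_right]; exact hn⟩
  have htop : Subgroup.zpowers x = ⊤ := (IsSimpleGroup.eq_bot_or_eq_top_of_normal _ hN).resolve_left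
    fun e => hx1 (Subgroup.zpowers_eq_bot.1 e)
  have hall : ∀ z : commutator G, z = 1 ∨ z = x := fun z => by
    obtain ⟨i, hi⟩ := Subgroup.mem_zpowers_iff.1 (htop ▸ Subgroup.mem_top z)
    have h2 : x ^ (2 : ℤ) = 1 := by rw [zpow_two, hxx]
    rcases Int.even_or_odd' i with ⟨j, rfl | rfl⟩
    · exact Or.inl (by rw [← hi, zpow_mul, h2, one_zpow])
    · exact Or.inr (by rw [← hi, zpow_add, zpow_mul, h2, one_zpow, one_mul, zpow_one])
  have hc : (x : G) ∈ Subgroup.center G := Subgroup.mem_center_iff.2 fun g => by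
    rcases hall ⟨g * x * g⁻¹, (inferInstance : (commutator G).Normal).conj_mem _ x.2 g⟩ with e | e
    · have e1 : g * (x : G) * g⁻¹ = 1 := congrArg Subtype.val e
      exact absurd (Subtype.ext (conj_eq_one_iff.1 e1)) hx1
    · have e1 : g * (x : G) * g⁻¹ = x := congrArg Subtype.val e
      exact mul_inv_eq_iff_eq_mul.1 e1
  rw [h.center, Subgroup.mem_bot] at hc
  exact hx1 (Subtype.ext hc)

theorem perfect (h : Generic D) : ⁅commutator G, commutator G⁆ = commutator G := by
  haveI := h.simple
  obtain ⟨x, y, hxy⟩ := exists_nonabelian h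
  refine le_antisymm (Subgroup.commutator_le_self _) ?_
  rcases (inferInstance : (⁅commutator G, commutator G⁆.subgroupOf (commutator G)).Normal).eq_bot_or_eq_top
    with e | e
  · refine absurd ?_ hxy
    have : (⁅x, y⁆ : commutator G) ∈ ⁅commutator G, commutator G⁆.subgroupOf (commutator G) :=
      Subgroup.mem_subgroupOf.2 (by
        have := Subgroup.commutator_mem_commutator x.2 y.2
        simpa [commutatorElement_def] using this)
    rw [e, Subgroup.mem_bot, commutatorElement_eq_one_iff_commute] at this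
    exact this.eq
  · exact Subgroup.subgroupOf_eq_top.1 e

theorem solvable_eq_bot [Finite G] (h : Generic D) (N : Subgroup G) (hN : N.Normal)
    (hsol : Group.IsSolvable N) : N = ⊥ :=
  FischerRankThree.solvable_normal_eq_bot h.simple (exists_nonabelian h) h.center N hN hsol

theorem rank_three [Finite G] (h : Generic D) {a : G} (ha : a ∈ D) :
    (∃ b ∈ D, b ≠ a ∧ Commute a b) ∧ (∃ c ∈ D, ¬ Commute a c) ∧
    (∀ b ∈ D, ∀ b' ∈ D, b ≠ a → b' ≠ a → Commute a b → Commute a b' → ∃ g : G, Commute g a ∧ g * b * g⁻¹ = b') ∧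
    (∀ c ∈ D, ∀ c' ∈ D, ¬ Commute a c → ¬ Commute a c' → ∃ g : G, Commute g a ∧ g * c * g⁻¹ = c') :=
  FischerRankThree.rank_three h.cls h.simple (exists_nonabelian h) h.center ha

theorem conj_perp (hD : IsThreeTranspositionClass D) (g x : G) :
    (fun y => g * y * g⁻¹) '' perp D x = perp D (g * x * g⁻¹) :=
  FischerTransitivity.conj_commSet hD x g

theorem perp_ncard_eq [Finite G] (hD : IsThreeTranspositionClass D) {x y : G} (hx : x ∈ D) (hy : y ∈ D) :
    (perp D x).ncard = (perp D y).ncard :=
  FischerTransitivity.commSet_ncard_eq hD hx hy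

theorem inter_ncard_conj (hD : IsThreeTranspositionClass D) (g x z : G) :
    (perp D (g * x * g⁻¹) ∩ perp D (g * z * g⁻¹)).ncard = (perp D x ∩ perp D z).ncard := by
  rw [← conj_perp hD, ← conj_perp hD, ← Set.image_inter (fun u v h => by simpa using h),
    Set.ncard_image_of_injective _ (fun u v h => by simpa using h)]

/-- The number of common partners depends only on whether the two members commute. -/
theorem inter_ncard_eq [Finite G] (h : Generic D) {x y d b : G} (hx : x ∈ D) (hy : y ∈ D) (hd : d ∈ D)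
    (hb : b ∈ D) (hxy : x ≠ y) (hdb : d ≠ b) (hiff : Commute x y ↔ Commute d b) :
    (perp D x ∩ perp D y).ncard = (perp D d ∩ perp D b).ncard := by
  obtain ⟨-, -, hcomm, hncomm⟩ := rank_three h hd
  obtain ⟨g, rfl⟩ := FischerTransitivity.exists_conj h.cls hd hx
  have hy' : g⁻¹ * y * g ≠ d := fun e => hxy (by rw [← e]; group)
  have hmem : g⁻¹ * y * g ∈ D := by simpa using FischerTransitivity.conj_mem h.cls g⁻¹ hy
  have hcd : Commute d (g⁻¹ * y * g) ↔ Commute (g * d * g⁻¹) y := by
    rw [← Commute.conj_iff g (a := d)]; simp [mul_assoc]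
  obtain ⟨k, hk1, hk2⟩ : ∃ k : G, Commute k d ∧ k * b * k⁻¹ = g⁻¹ * y * g := by
    by_cases hc : Commute d b
    · exact hcomm b hb _ hmem (Ne.symm hdb) hy' hc (hcd.2 (hiff.2 hc))
    · exact hncomm b hb _ hmem hc (fun e => hc (hiff.1 (hcd.1 e)))
  have := inter_ncard_conj h.cls (g * k) d b
  rwa [show g * k * d * (g * k)⁻¹ = g * (k * d * k⁻¹) * g⁻¹ by group,
    show k * d * k⁻¹ = d by rw [hk1.eq, mul_inv_cancel_right],
    show g * k * b * (g * k)⁻¹ = g * (k * b * k⁻¹) * g⁻¹ by group, hk2,
    show g * (g⁻¹ * y * g) * g⁻¹ = y by group] at this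

theorem inter_lt [Finite G] (h : Generic D) {d c : G} (hd : d ∈ D) (hc : c ∈ D) (hdc : ¬ Commute d c) :
    (perp D d ∩ perp D c).ncard < (perp D d).ncard := by
  obtain ⟨⟨a, ha, had, hda⟩, -⟩ := rank_three h hd
  refine lt_of_le_of_ne (Set.ncard_le_ncard Set.inter_subset_left (Set.toFinite _)) fun e => ?_
  have h1 : perp D d ∩ perp D c = perp D d :=
    Set.eq_of_subset_of_ncard_le Set.inter_subset_left e.ge (Set.toFinite _)
  have h2 : perp D d = perp D c := Set.eq_of_subset_of_ncard_le
    (Set.inter_eq_left.1 h1) (perp_ncard_eq h.cls hc hd).le (Set.toFinite _)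
  obtain rfl := FischerTransitivity.eq_of_commSet_eq (solvable_eq_bot h) h.cls hd hc
    ⟨a, ha, had, hda⟩ h2.symm
  exact hdc (Commute.refl _)

/-- Two non-commuting members have a common partner. -/
theorem inter_nonempty [Finite G] (h : Generic D) {d c : G} (hd : d ∈ D) (hc : c ∈ D)
    (hdc : ¬ Commute d c) : (perp D d ∩ perp D c).Nonempty := by
  by_contra hno
  rw [Set.not_nonempty_iff_eq_empty] at hno
  have hclo : ∀ z : G, z ∈ FischerTransitivity.commClass D d → z = d ∨ z ∈ perp D d := by
    intro z hz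
    induction hz with
    | refl => exact Or.inl rfl
    | @tail b z' _ hbz ih =>
      rcases eq_or_ne z' d with hzd | hzd
      · exact Or.inl hzd
      refine Or.inr ⟨hbz.2.1, hzd, ?_⟩
      rcases ih with rfl | hb
      · exact hbz.2.2
      by_contra hdz
      have hbz' : b ≠ z' := fun e => hdz (e ▸ hb.2.2)
      have hmem : b ∈ perp D d ∩ perp D z' := ⟨hb, hb.1, hbz', hbz.2.2.symm⟩
      have hd1 : d ≠ c := fun e => hdc (e ▸ Commute.refl d)
      have hcard := inter_ncard_eq h hd hbz.2.1 hd hc hzd.symm hd1 (iff_of_false hdz hdc)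
      rw [hno, Set.ncard_empty, Set.ncard_eq_zero (Set.toFinite _)] at hcard
      rw [hcard] at hmem
      exact hmem
  rcases hclo c (FischerTransitivity.mem_commClass h.cls (perfect h) hd hc) with rfl | hcm
  · exact hdc (Commute.refl _)
  · exact hdc hcm.2.2

theorem succ_le_ncard [Finite G] {d a : G} (ha : a ∈ perp D d) :
    (perp D d ∩ perp D a).ncard + 1 ≤ (perp D d).ncard := by
  rw [← Set.ncard_insert_of_notMem (a := a) (fun e => e.2.2.1 rfl) (Set.toFinite _)]
  exact Set.ncard_le_ncard (Set.insert_subset ha Set.inter_subset_left) (Set.toFinite _)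

end CfsgLib.FischerThm.SrgAux
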